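import Mathlib
set_option linter.all false

/-!
# Primitive groups containing a regular abelian subgroup with a cyclic Sylow subgroup

Schur's theorem (Burnside for cyclic groups of prime power order): a primitive permutation group
with a regular abelian subgroup `A`, of composite order, which has exactly one subgroup of some
prime order `p`, is doubly transitive.

The group `G` acts on the abelian group `A` itself, so that the translations by elements of `A`
come from elements of `G` (`ι : A →* G`, `ι a • b = a * b`).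
-/

set_option autoImplicit false

namespace Cfsg.Agent.H490.RegCyclic

open scoped BigOperators Pointwise

section Basic

variable {G A : Type*} [Group G] [CommGroup A] [MulAction G A]

/-- `K` is invariant under the stabilizer of `1`. -/
def IsS (G : Type*) {A : Type*} [Group G] [CommGroup A] [MulAction G A] (K : Set A) : Prop :=
  ∀ g : G, g • (1 : A) = 1 → ∀ a ∈ K, g • a ∈ K

theorem twist (ι : A →* G) (hι : ∀ a b : A, ι a • b = a * b) (g : G) (h : A) :
    ∃ g' : G, g' • (1 : A) = 1 ∧ ∀ k : A, g • (h * k) = (g • h) * (g' • k) := by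
  refine ⟨ι (g • h)⁻¹ * g * ι h, ?_, ?_⟩
  · rw [mul_smul, mul_smul, hι, hι, mul_one, inv_mul_cancel]
  · intro k
    rw [mul_smul, mul_smul, hι, hι, mul_inv_cancel_left]

theorem inv_fix {g : G} (hg : g • (1 : A) = 1) : g⁻¹ • (1 : A) = 1 := by
  rw [inv_smul_eq_iff, hg]

theorem IsS.iff {K : Set A} (hK : IsS G K) {g : G} (hg : g • (1 : A) = 1) (a : A) :
    g • a ∈ K ↔ a ∈ K := by
  refine ⟨fun h => ?_, hK g hg a⟩
  have := hK g⁻¹ (inv_fix hg) _ h
  rwa [inv_smul_smul] at this

theorem closure_isS (ι : A →* G) (hι : ∀ a b : A, ι a • b = a * b) {K : Set A} (hK : IsS G K) :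
    IsS G (Subgroup.closure K : Set A) := by
  intro g hg a ha
  have key : ∀ a ∈ Subgroup.closure K, ∀ g : G, g • (1 : A) = 1 → g • a ∈ Subgroup.closure K := by
    intro a ha
    induction ha using Subgroup.closure_induction with
    | mem x hx => exact fun g hg => Subgroup.subset_closure (hK g hg x hx)
    | one => intro g hg; rw [hg]; exact one_mem _
    | mul x y _ _ hx hy =>
      intro g hg
      obtain ⟨g', hg', h⟩ := twist ι hι g x
      rw [h]
      exact mul_mem (hx g hg) (hy g' hg')
    | inv x _ hx =>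
      intro g hg
      obtain ⟨g', hg', h⟩ := twist ι hι g x⁻¹
      have h1 := h x
      rw [inv_mul_cancel, hg] at h1
      have h2 : g • x⁻¹ = (g' • x)⁻¹ := by
        rw [eq_inv_iff_mul_eq_one, ← h1]
      rw [h2]
      exact inv_mem (hx g' hg')
  exact key a ha g hg

/-- An invariant subgroup is trivial or everything when `G` is primitive. -/
theorem eq_bot_or_top (ι : A →* G) (hι : ∀ a b : A, ι a • b = a * b)
    (hprim : MulAction.IsPreprimitive G A) (L : Subgroup A) (hL : IsS G (L : Set A)) :
    L = ⊥ ∨ L = ⊤ := by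
  have hsub : ∀ g : G, ∀ l ∈ L, g • l ∈ L → ∀ k ∈ L, g • k ∈ L := by
    intro g l hl hgl k hk
    obtain ⟨g', hg', h⟩ := twist ι hι g l
    have h1 := h (l⁻¹ * k)
    rw [mul_inv_cancel_left] at h1
    rw [h1]
    exact mul_mem hgl (hL g' hg' _ (mul_mem (inv_mem hl) hk))
  have hB : MulAction.IsBlock G (L : Set A) := by
    rw [MulAction.isBlock_iff_smul_eq_or_disjoint]
    intro g
    by_cases hd : Disjoint (g • (L : Set A)) (L : Set A)
    · exact Or.inr hd
    · left
      rw [Set.not_disjoint_iff] at hd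
      obtain ⟨x, ⟨l, hl, hlx⟩, hx⟩ := hd
      have hlx' : g • l = x := hlx
      have h1 := hsub g l hl (by rw [hlx']; exact hx)
      have h2 := hsub g⁻¹ x hx (by rw [← hlx', inv_smul_smul]; exact hl)
      ext y
      constructor
      · rintro ⟨k, hk, rfl⟩
        exact h1 k hk
      · intro hy
        exact ⟨g⁻¹ • y, h2 y hy, smul_inv_smul g y⟩
  rcases hprim.isTrivialBlock_of_isBlock hB with h | h
  · left
    rw [Subgroup.eq_bot_iff_forall]
    intro x hx
    exact h hx L.one_mem
  · right
    exact SetLike.coe_injective (h.trans Subgroup.coe_top.symm)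

/-- A non-empty invariant set without `1` is not invariant under translation by `z ≠ 1`. -/
theorem no_translation (ι : A →* G) (hι : ∀ a b : A, ι a • b = a * b)
    (hprim : MulAction.IsPreprimitive G A) (T : Set A) (hT : IsS G T) (hne : T.Nonempty)
    (h1 : (1 : A) ∉ T) (z : A) (hz : z ≠ 1) (hzT : ∀ x, z * x ∈ T ↔ x ∈ T) : False := by
  let L : Subgroup A :=
    { carrier := {a | ∀ x, a * x ∈ T ↔ x ∈ T}
      one_mem' := by intro x; rw [one_mul]
      mul_mem' := by
        intro a b ha hb x
        rw [mul_assoc]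
        exact (ha (b * x)).trans (hb x)
      inv_mem' := by
        intro a ha x
        have := ha (a⁻¹ * x)
        rw [mul_inv_cancel_left] at this
        exact this.symm }
  have hL : IsS G (L : Set A) := by
    intro g hg a ha x
    obtain ⟨g', hg', h⟩ := twist ι hι g a
    have h2 := h (g'⁻¹ • x)
    rw [smul_inv_smul] at h2
    rw [← h2, hT.iff hg]
    have h3 : a * g'⁻¹ • x ∈ T ↔ g'⁻¹ • x ∈ T := ha (g'⁻¹ • x)
    rw [h3, hT.iff (inv_fix hg')]
  rcases eq_bot_or_top ι hι hprim L hL with h | h
  · have : z ∈ L := hzT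
    rw [h, Subgroup.mem_bot] at this
    exact hz this
  · obtain ⟨x, hx⟩ := hne
    have : x⁻¹ ∈ L := by rw [h]; trivial
    have h2 : x⁻¹ * x ∈ T ↔ x ∈ T := this x
    rw [inv_mul_cancel] at h2
    exact h1 (h2.mpr hx)

end Basic

section Algebra

variable {G A R : Type*} [Group G] [CommGroup A] [MulAction G A] [CommRing R]

/-- Invariance of an element of the group algebra under the stabilizer of `1`. -/
def Inv (G : Type*) {A R : Type*} [Group G] [CommGroup A] [MulAction G A] [CommRing R]
    (x : MonoidAlgebra R A) : Prop :=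
  ∀ g : G, g • (1 : A) = 1 → ∀ a : A, x.coeff (g • a) = x.coeff a

theorem coeff_mul_sum [Fintype A] (x y : MonoidAlgebra R A) (a : A) :
    (x * y).coeff a = ∑ b : A, x.coeff b * y.coeff (b⁻¹ * a) := by
  rw [MonoidAlgebra.coeff_mul_apply_left, Finsupp.sum_fintype]
  intro b
  rw [zero_mul]

theorem Inv.mul [Fintype A] (ι : A →* G) (hι : ∀ a b : A, ι a • b = a * b)
    {x y : MonoidAlgebra R A} (hx : Inv G x) (hy : Inv G y) : Inv G (x * y) := by
  intro g hg a
  rw [coeff_mul_sum, coeff_mul_sum]
  symm
  refine Fintype.sum_equiv (MulAction.toPerm g) _ _ ?_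
  intro b
  rw [MulAction.toPerm_apply, hx g hg]
  congr 1
  obtain ⟨g', hg', h⟩ := twist ι hι g b
  have h1 := h (b⁻¹ * a)
  rw [mul_inv_cancel_left] at h1
  rw [h1, inv_mul_cancel_left, hy g' hg']

theorem Inv.one : Inv G (1 : MonoidAlgebra R A) := by
  classical
  intro g hg a
  rw [MonoidAlgebra.one_def, MonoidAlgebra.coeff_single, Finsupp.single_apply, Finsupp.single_apply]
  congr 1
  rw [eq_iff_iff]
  constructor
  · intro h
    have : g • a = g • 1 := by rw [hg, ← h]
    exact (smul_left_cancel g this).symm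
  · rintro rfl
    exact hg.symm

theorem Inv.pow [Fintype A] (ι : A →* G) (hι : ∀ a b : A, ι a • b = a * b)
    {x : MonoidAlgebra R A} (hx : Inv G x) (n : ℕ) : Inv G (x ^ n) := by
  induction n with
  | zero => rw [pow_zero]; exact Inv.one
  | succ n ih => rw [pow_succ]; exact Inv.mul ι hι ih hx

theorem Inv.sub {x y : MonoidAlgebra R A} (hx : Inv G x) (hy : Inv G y) : Inv G (x - y) := by
  intro g hg a
  rw [MonoidAlgebra.coeff_sub, Finsupp.sub_apply, Finsupp.sub_apply, hx g hg, hy g hg]

theorem Inv.smul {x : MonoidAlgebra R A} (hx : Inv G x) (r : R) : Inv G (r • x) := by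
  intro g hg a
  rw [MonoidAlgebra.coeff_smul, Finsupp.smul_apply, Finsupp.smul_apply, hx g hg]

theorem Inv.support {x : MonoidAlgebra R A} (hx : Inv G x) : IsS G {a : A | x.coeff a ≠ 0} := by
  intro g hg a ha
  change x.coeff (g • a) ≠ 0
  rw [hx g hg]
  exact ha

/-- The sum of the elements of a finite set in the group algebra. -/
noncomputable def ind (R : Type*) {A : Type*} [CommGroup A] [CommRing R] (T : Finset A) :
    MonoidAlgebra R A := ∑ t ∈ T, MonoidAlgebra.single t 1

theorem coeff_ind [DecidableEq A] (T : Finset A) (a : A) :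
    (ind R T).coeff a = if a ∈ T then 1 else 0 := by
  rw [ind, MonoidAlgebra.coeff_sum, Finsupp.finsetSum_apply]
  simp only [MonoidAlgebra.coeff_single, Finsupp.single_apply]
  rw [Finset.sum_ite_eq']

theorem inv_ind {T : Finset A} (hT : IsS G (T : Set A)) : Inv G (ind R T) := by
  classical
  intro g hg a
  rw [coeff_ind, coeff_ind]
  congr 1
  exact propext (hT.iff hg a)

end Algebra


section Prime

variable {G A : Type*} [Group G] [CommGroup A] [MulAction G A] [Finite A] {p : ℕ}
  [hp : Fact p.Prime]

/-- **Schur.** The elements of an invariant set outside the subgroup `⟨z⟩` of order `p` form a union of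
cosets of `⟨z⟩`, when `⟨z⟩` contains all elements of order `p` and `G` is primitive. -/
theorem mul_pow_mem (ι : A →* G) (hι : ∀ a b : A, ι a • b = a * b)
    (hprim : MulAction.IsPreprimitive G A) {z : A} (hz : orderOf z = p)
    (huniq : ∀ a : A, a ^ p = 1 → a ∈ Subgroup.zpowers z) (T : Finset A) (hT : IsS G (T : Set A))
    {x : A} (hx : x ∈ T) (hxz : x ∉ Subgroup.zpowers z) (i : ℕ) : x * z ^ i ∈ T := by
  classical
  haveI := Fintype.ofFinite A
  -- the coefficients of the `p`-th power
  have hpow : (ind (ZMod p) T) ^ p = ∑ t ∈ T, MonoidAlgebra.single (t ^ p) (1 : ZMod p) := by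
    haveI : CharP (MonoidAlgebra (ZMod p) A) p := by
      refine charP_of_injective_ringHom
        (f := (MonoidAlgebra.singleOneRingHom : ZMod p →+* MonoidAlgebra (ZMod p) A)) ?_ p
      intro a b hab
      have := congrArg (fun x : MonoidAlgebra (ZMod p) A => x.coeff 1) hab
      simpa [MonoidAlgebra.singleOneRingHom] using this
    rw [ind, sum_pow_char]
    refine Finset.sum_congr rfl fun t _ => ?_
    rw [MonoidAlgebra.single_pow, one_pow]
  have hcoeff : ∀ y : A, ((ind (ZMod p) T) ^ p).coeff y = ((T.filter (fun t => t ^ p = y)).card : ZMod p) := by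
    intro y
    rw [hpow, MonoidAlgebra.coeff_sum, Finsupp.finsetSum_apply]
    simp only [MonoidAlgebra.coeff_single, Finsupp.single_apply]
    rw [Finset.sum_boole]
  set K : Set A := {y : A | ((ind (ZMod p) T) ^ p).coeff y ≠ 0} with hKdef
  have hK : IsS G K := Inv.support ((inv_ind hT).pow ι hι p)
  have hKsub : K ⊆ ((powMonoidHom p : A →* A).range : Set A) := by
    intro y hy
    have h1 : (T.filter (fun t => t ^ p = y)).card ≠ 0 := by
      intro h
      apply hy
      rw [hcoeff, h, Nat.cast_zero]
    obtain ⟨t, ht⟩ := Finset.card_ne_zero.mp h1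
    exact ⟨t, (Finset.mem_filter.mp ht).2⟩
  have hKbot : Subgroup.closure K = ⊥ := by
    rcases eq_bot_or_top ι hι hprim _ (closure_isS ι hι hK) with h | h
    · exact h
    · exfalso
      have h1 : (powMonoidHom p : A →* A).range = ⊤ := by
        rw [eq_top_iff, ← h, Subgroup.closure_le]
        exact hKsub
      have h2 : Function.Injective (powMonoidHom p : A →* A) :=
        Finite.injective_iff_surjective.mpr (MonoidHom.range_eq_top.mp h1)
      have h3 : z = 1 := by
        apply h2
        change z ^ p = 1 ^ p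
        rw [← hz, pow_orderOf_eq_one, one_pow]
      rw [h3, orderOf_one] at hz
      exact hp.out.one_lt.ne hz
  have hxp : x ^ p ≠ 1 := fun h => hxz (huniq x h)
  have hnot : x ^ p ∉ K := by
    intro h
    have h1 : x ^ p ∈ Subgroup.closure K := Subgroup.subset_closure h
    rw [hKbot, Subgroup.mem_bot] at h1
    exact hxp h1
  have h0 : ((ind (ZMod p) T) ^ p).coeff (x ^ p) = 0 := by
    by_contra h
    exact hnot h
  rw [hcoeff, ZMod.natCast_eq_zero_iff] at h0
  have hpos : 0 < (T.filter (fun t => t ^ p = x ^ p)).card :=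
    Finset.card_pos.mpr ⟨x, Finset.mem_filter.mpr ⟨hx, rfl⟩⟩
  have hle := Nat.le_of_dvd hpos h0
  have hsub : (T.filter (fun t => t ^ p = x ^ p)) ⊆ (Finset.range p).image (fun i => x * z ^ i) := by
    intro t ht
    have h1 := (Finset.mem_filter.mp ht).2
    have h2 : (x⁻¹ * t) ^ p = 1 := by rw [mul_pow, inv_pow, h1, inv_mul_cancel]
    have h3 := huniq _ h2
    rw [mem_zpowers_iff_mem_range_orderOf, hz, Finset.mem_image] at h3
    obtain ⟨j, hj, hj2⟩ := h3
    rw [Finset.mem_image]
    refine ⟨j, hj, ?_⟩
    rw [show z ^ j = x⁻¹ * t from hj2, mul_inv_cancel_left]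
  have heq := Finset.eq_of_subset_of_card_le hsub (Finset.card_image_le.trans (by rwa [Finset.card_range]))
  have hmod : z ^ i = z ^ (i % p) := by rw [← hz, pow_mod_orderOf]
  have : x * z ^ i ∈ (Finset.range p).image (fun i => x * z ^ i) := by
    rw [Finset.mem_image]
    exact ⟨i % p, Finset.mem_range.mpr (Nat.mod_lt _ hp.out.pos), by rw [← hmod]⟩
  rw [← heq] at this
  exact (Finset.mem_filter.mp this).1

end Prime

section Moments

variable {A : Type*} [CommGroup A] {p : ℕ} [hp : Fact p.Prime]

/-- A function on `A` invariant under translation by an element of order `p` has sum `0` modulo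
`p`. -/
theorem sum_eq_zero [Fintype A] {z : A} (hz : orderOf z = p) (F : A → ZMod p)
    (hF : ∀ b, F (z * b) = F b) : ∑ b, F b = 0 := by
  classical
  have hN : ∀ n ∈ Subgroup.zpowers z, ∀ b, F (b * n) = F b := by
    intro n hn b
    obtain ⟨i, hi⟩ := (mem_powers_iff_mem_zpowers (x := z)).mpr hn
    have h1 : ∀ j : ℕ, F (b * z ^ j) = F b := by
      intro j
      induction j with
      | zero => rw [pow_zero, mul_one]
      | succ j ih => rw [pow_succ, ← mul_assoc, mul_comm, hF, ih]
    rw [← hi]
    exact h1 i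
  let e : (A ⧸ Subgroup.zpowers z) × Subgroup.zpowers z ≃ A :=
    { toFun := fun x => x.1.out * x.2
      invFun := fun b => (QuotientGroup.mk b, ⟨(QuotientGroup.mk b : A ⧸ Subgroup.zpowers z).out⁻¹ * b, by
        rw [← QuotientGroup.eq, QuotientGroup.out_eq']⟩)
      left_inv := by
        rintro ⟨q, n, hn⟩
        have h1 : (QuotientGroup.mk (q.out * n) : A ⧸ Subgroup.zpowers z) = q := by
          rw [QuotientGroup.mk_mul_of_mem _ hn, QuotientGroup.out_eq']
        ext1
        · exact h1
        · apply Subtype.ext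
          change (QuotientGroup.mk (q.out * n) : A ⧸ Subgroup.zpowers z).out⁻¹ * (q.out * n) = n
          rw [h1, inv_mul_cancel_left]
      right_inv := by
        intro b
        exact mul_inv_cancel_left _ _ }
  rw [← e.sum_comp, Fintype.sum_prod_type]
  refine Finset.sum_eq_zero fun q _ => ?_
  have h2 : ∀ n : Subgroup.zpowers z, F (e (q, n)) = F q.out := fun n => hN n n.2 q.out
  rw [Finset.sum_congr rfl (fun n _ => h2 n), Finset.sum_const, Finset.card_univ,
    Fintype.card_zpowers, hz, nsmul_eq_mul, CharP.cast_eq_zero, zero_mul]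

/-- The product of two elements of the group algebra modulo `p` invariant under an element of order
`p` is `0`. -/
theorem mul_eq_zero_of_invariant [Fintype A] {z : A} (hz : orderOf z = p)
    {x y : MonoidAlgebra (ZMod p) A} (hx : ∀ a, x.coeff (z * a) = x.coeff a)
    (hy : ∀ a, y.coeff (z * a) = y.coeff a) : x * y = 0 := by
  ext a
  rw [coeff_mul_sum]
  change _ = (0 : ZMod p)
  refine sum_eq_zero hz _ fun b => ?_
  rw [hx]
  congr 1
  have h1 := hy ((z * b)⁻¹ * a)
  rw [← h1]
  congr 1
  rw [mul_inv, mul_assoc, mul_inv_cancel_left]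

/-- the `k`-th moment on `⟨z⟩` -/
noncomputable def lam (p : ℕ) {A : Type*} [CommGroup A] (z : A) (k : ℕ)
    (x : MonoidAlgebra (ZMod p) A) : ZMod p :=
  ∑ i ∈ Finset.range p, x.coeff (z ^ i) * (i : ZMod p) ^ k

theorem lam_sum {ι : Type*} (s : Finset ι) (f : ι → MonoidAlgebra (ZMod p) A) (z : A) (k : ℕ) :
    lam p z k (∑ i ∈ s, f i) = ∑ i ∈ s, lam p z k (f i) := by
  simp only [lam, MonoidAlgebra.coeff_sum, Finsupp.finsetSum_apply, Finset.sum_mul]
  rw [Finset.sum_comm]

theorem lam_single {z : A} (hz : orderOf z = p) (k m : ℕ) (r : ZMod p) :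
    lam p z k (MonoidAlgebra.single (z ^ m) r) = r * (m : ZMod p) ^ k := by
  classical
  unfold lam
  rw [Finset.sum_eq_single (m % p)]
  · rw [MonoidAlgebra.coeff_single, Finsupp.single_apply, if_pos]
    · rw [ZMod.natCast_mod]
    · rw [← hz, pow_mod_orderOf]
  · intro i hi hne
    rw [MonoidAlgebra.coeff_single, Finsupp.single_apply, if_neg, zero_mul]
    intro h
    apply hne
    have h1 := (pow_eq_pow_iff_modEq (x := z)).mp h
    rw [hz] at h1
    have h2 := Finset.mem_range.mp hi
    rw [← Nat.mod_eq_of_lt h2]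
    exact h1.symm
  · intro h
    exact absurd (Finset.mem_range.mpr (Nat.mod_lt _ hp.out.pos)) h

/-- moments of a product -/
theorem lam_mul {z : A} (hz : orderOf z = p) (c d : ℕ → ZMod p) (k : ℕ) :
    lam p z k ((∑ i ∈ Finset.range p, MonoidAlgebra.single (z ^ i) (c i)) *
      (∑ i ∈ Finset.range p, MonoidAlgebra.single (z ^ i) (d i))) =
    ∑ a ∈ Finset.range (k + 1), (∑ i ∈ Finset.range p, c i * (i : ZMod p) ^ a) *
      (∑ i ∈ Finset.range p, d i * (i : ZMod p) ^ (k - a)) * (k.choose a : ZMod p) := by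
  rw [Finset.sum_mul_sum, lam_sum]
  simp only [lam_sum, MonoidAlgebra.single_mul_single, ← pow_add, lam_single hz]
  have h1 : ∀ i ∈ Finset.range p, ∀ j ∈ Finset.range p,
      c i * d j * (((i + j : ℕ) : ZMod p)) ^ k = ∑ a ∈ Finset.range (k + 1),
        (c i * (i : ZMod p) ^ a) * (d j * (j : ZMod p) ^ (k - a)) * (k.choose a : ZMod p) := by
    intro i _ j _
    rw [Nat.cast_add, add_pow, Finset.mul_sum]
    refine Finset.sum_congr rfl fun a _ => ?_
    ring
  rw [Finset.sum_congr rfl fun i hi => Finset.sum_congr rfl fun j hj => h1 i hi j hj]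
  rw [Finset.sum_congr rfl fun i _ => Finset.sum_comm]
  rw [Finset.sum_comm]
  refine Finset.sum_congr rfl fun a _ => ?_
  rw [Finset.sum_mul_sum, Finset.sum_mul]
  refine Finset.sum_congr rfl fun i _ => ?_
  rw [Finset.sum_mul]

/-- Some power sum of a non-empty set of non-zero residues, with exponent at most its size, is not
zero. -/
theorem exists_power_sum_ne_zero (I : Finset ℕ) (hI : I.Nonempty) (hIp : ∀ i ∈ I, i < p)
    (h0 : 0 ∉ I) : ∃ k, 1 ≤ k ∧ k ≤ I.card ∧ ∑ i ∈ I, (i : ZMod p) ^ k ≠ 0 := by
  by_contra hcon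
  push Not at hcon
  let e := I.equivFin.symm
  let f : Fin I.card → ZMod p := fun j => ((e j : ℕ) : ZMod p)
  have hf : Function.Injective f := by
    intro a b hab
    apply e.injective
    apply Subtype.ext
    have h1 : ((e a : ℕ) : ZMod p) = ((e b : ℕ) : ZMod p) := hab
    rw [ZMod.natCast_eq_natCast_iff] at h1
    have h2 : (e a : ℕ) % p = (e b : ℕ) % p := h1
    rwa [Nat.mod_eq_of_lt (hIp _ (e a).2), Nat.mod_eq_of_lt (hIp _ (e b).2)] at h2
  have hv := Matrix.eq_zero_of_forall_pow_sum_mul_pow_eq_zero (f := f) (v := f) hf (by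
    intro i
    have h1 := hcon (i + 1) (by omega) i.2
    rw [← h1, ← Finset.sum_coe_sort I (fun j => ((j : ℕ) : ZMod p) ^ ((i : ℕ) + 1)),
      ← e.sum_comp]
    refine Finset.sum_congr rfl fun j _ => ?_
    rw [pow_succ'])
  obtain ⟨i, hi⟩ := hI
  have h2 := congrFun hv (e.symm ⟨i, hi⟩)
  change ((e (e.symm ⟨i, hi⟩) : ℕ) : ZMod p) = 0 at h2
  rw [e.apply_symm_apply, ZMod.natCast_eq_zero_iff] at h2
  have h3 := Nat.eq_zero_of_dvd_of_lt h2 (hIp i hi)
  exact h0 (h3 ▸ hi)

end Moments

section Main

variable {G A : Type*} [Group G] [CommGroup A] [MulAction G A] [Finite A] {p : ℕ}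
  [hp : Fact p.Prime]

/-- the exponents `i < p` with `z ^ i ∈ T` -/
def expo [DecidableEq A] (p : ℕ) (z : A) (T : Finset A) : Finset ℕ :=
  (Finset.range p).filter (fun i => z ^ i ∈ T)

theorem expo_nonempty [DecidableEq A] (ι : A →* G) (hι : ∀ a b : A, ι a • b = a * b)
    (hprim : MulAction.IsPreprimitive G A) {z : A} (hz : orderOf z = p)
    (huniq : ∀ a : A, a ^ p = 1 → a ∈ Subgroup.zpowers z) (T : Finset A) (hT : IsS G (T : Set A))
    (hne : T.Nonempty) (h1 : (1 : A) ∉ T) : (expo p z T).Nonempty := by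
  by_contra hcon
  rw [Finset.not_nonempty_iff_eq_empty] at hcon
  have hout : ∀ x ∈ T, x ∉ Subgroup.zpowers z := by
    intro x hx hxz
    rw [mem_zpowers_iff_mem_range_orderOf, hz, Finset.mem_image] at hxz
    obtain ⟨j, hj, hj2⟩ := hxz
    have : j ∈ expo p z T := Finset.mem_filter.mpr ⟨hj, by rw [show z ^ j = x from hj2]; exact hx⟩
    rw [hcon] at this
    exact absurd this (Finset.notMem_empty _)
  have hz1 : z ≠ 1 := by
    rintro rfl
    rw [orderOf_one] at hz
    exact hp.out.one_lt.ne hz
  refine no_translation ι hι hprim (T : Set A) hT hne h1 z hz1 ?_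
  intro x
  constructor
  · intro h
    have h2 := mul_pow_mem ι hι hprim hz huniq T hT h (hout _ h) (p - 1)
    have h3 : z * x * z ^ (p - 1) = x := by
      rw [mul_right_comm, ← pow_succ', Nat.sub_add_cancel hp.out.one_lt.le, ← hz, pow_orderOf_eq_one,
        one_mul]
    rw [h3] at h2
    exact h2
  · intro h
    have h2 := mul_pow_mem ι hι hprim hz huniq T hT h (hout _ h) 1
    rw [pow_one, mul_comm] at h2
    exact h2

/-- the part on `⟨z⟩` -/
noncomputable def part (p : ℕ) (z : A) (u : MonoidAlgebra (ZMod p) A) : MonoidAlgebra (ZMod p) A :=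
  ∑ i ∈ Finset.range p, MonoidAlgebra.single (z ^ i) (u.coeff (z ^ i))

theorem coeff_part_of_mem {z : A} (hz : orderOf z = p) (u : MonoidAlgebra (ZMod p) A) {h : A}
    (hh : h ∈ Subgroup.zpowers z) : (part p z u).coeff h = u.coeff h := by
  classical
  rw [mem_zpowers_iff_mem_range_orderOf, hz, Finset.mem_image] at hh
  obtain ⟨j, hj, hj2⟩ := hh
  have hj3 : z ^ j = h := hj2
  subst hj3
  unfold part
  rw [MonoidAlgebra.coeff_sum, Finsupp.finsetSum_apply, Finset.sum_eq_single j]
  · rw [MonoidAlgebra.coeff_single, Finsupp.single_eq_same]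
  · intro i hi hne
    rw [MonoidAlgebra.coeff_single, Finsupp.single_apply, if_neg]
    intro h
    apply hne
    have h1 := (pow_eq_pow_iff_modEq (x := z)).mp h
    rw [hz] at h1
    exact Nat.ModEq.eq_of_lt_of_lt h1 (Finset.mem_range.mp hi) (Finset.mem_range.mp hj)
  · intro h
    exact absurd hj h

theorem coeff_part_of_notMem {z : A} (u : MonoidAlgebra (ZMod p) A) {h : A}
    (hh : h ∉ Subgroup.zpowers z) : (part p z u).coeff h = 0 := by
  classical
  unfold part
  rw [MonoidAlgebra.coeff_sum, Finsupp.finsetSum_apply]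
  refine Finset.sum_eq_zero fun i _ => ?_
  rw [MonoidAlgebra.coeff_single, Finsupp.single_apply, if_neg]
  rintro rfl
  exact hh (Subgroup.pow_mem _ (Subgroup.mem_zpowers z) i)

/-- `part` kills invariant elements when the sum of the coefficients on `⟨z⟩` is zero. -/
theorem part_mul {z : A} (u y : MonoidAlgebra (ZMod p) A)
    (hu : ∑ i ∈ Finset.range p, u.coeff (z ^ i) = 0) (hy : ∀ a, y.coeff (z * a) = y.coeff a) :
    part p z u * y = 0 := by
  have h1 : ∀ i : ℕ, ∀ a, y.coeff (z ^ i * a) = y.coeff a := by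
    intro i
    induction i with
    | zero => intro a; rw [pow_zero, one_mul]
    | succ i ih => intro a; rw [pow_succ, mul_assoc, ih, hy]
  have h2 : ∀ i : ℕ, ∀ a, y.coeff ((z ^ i)⁻¹ * a) = y.coeff a := by
    intro i a
    have := h1 i ((z ^ i)⁻¹ * a)
    rwa [mul_inv_cancel_left, eq_comm] at this
  unfold part
  rw [Finset.sum_mul]
  ext a
  rw [MonoidAlgebra.coeff_sum, Finsupp.finsetSum_apply]
  simp only [MonoidAlgebra.coeff_single_mul_apply, h2]
  rw [← Finset.sum_mul, hu, zero_mul]
  rfl

theorem coeff_part_mul_part {z : A} (u v : MonoidAlgebra (ZMod p) A) {h : A}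
    (hh : h ∉ Subgroup.zpowers z) : (part p z u * part p z v).coeff h = 0 := by
  classical
  unfold part
  rw [Finset.sum_mul_sum, MonoidAlgebra.coeff_sum, Finsupp.finsetSum_apply]
  refine Finset.sum_eq_zero fun i _ => ?_
  rw [MonoidAlgebra.coeff_sum, Finsupp.finsetSum_apply]
  refine Finset.sum_eq_zero fun j _ => ?_
  rw [MonoidAlgebra.single_mul_single, MonoidAlgebra.coeff_single, Finsupp.single_apply, if_neg]
  rintro rfl
  exact hh (mul_mem (Subgroup.pow_mem _ (Subgroup.mem_zpowers z) i)
    (Subgroup.pow_mem _ (Subgroup.mem_zpowers z) j))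

/-- **Schur's theorem**: the stabilizer of `1` is transitive on the other elements of `A`. -/
theorem exists_smul_eq (ι : A →* G) (hι : ∀ a b : A, ι a • b = a * b)
    (hprim : MulAction.IsPreprimitive G A) {z : A} (hz : orderOf z = p)
    (huniq : ∀ a : A, a ^ p = 1 → a ∈ Subgroup.zpowers z) (hne : ∃ a : A, a ∉ Subgroup.zpowers z)
    {a b : A} (ha : a ≠ 1) (hb : b ≠ 1) : ∃ g : G, g • (1 : A) = 1 ∧ g • a = b := by
  classical
  haveI := Fintype.ofFinite A
  by_contra hcon
  -- the orbits
  let orb : A → Finset A := fun a => Finset.univ.filter (fun x => ∃ g : G, g • (1 : A) = 1 ∧ g • a = x)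
  have hmem : ∀ a x : A, x ∈ orb a ↔ ∃ g : G, g • (1 : A) = 1 ∧ g • a = x := by
    intro a x
    simp [orb]
  have hS : ∀ a : A, IsS G (orb a : Set A) := by
    intro a g hg x hx
    rw [Finset.mem_coe, hmem] at hx ⊢
    obtain ⟨g', hg', rfl⟩ := hx
    exact ⟨g * g', by rw [mul_smul, hg', hg], mul_smul _ _ _⟩
  have hself : ∀ a : A, a ∈ orb a := fun a => (hmem a a).mpr ⟨1, one_smul _ _, one_smul _ _⟩
  have hone : ∀ a : A, a ≠ 1 → (1 : A) ∉ orb a := by
    intro a ha h
    obtain ⟨g, hg, hga⟩ := (hmem a 1).mp h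
    apply ha
    apply smul_left_cancel g
    rw [hg, hga]
  have hdisj : ∀ x : A, x ∈ orb a → x ∈ orb b → False := by
    intro x hx hy
    obtain ⟨g, hg, hga⟩ := (hmem a x).mp hx
    obtain ⟨g', hg', hgb⟩ := (hmem b x).mp hy
    apply hcon
    refine ⟨g'⁻¹ * g, by rw [mul_smul, hg, inv_fix hg'], ?_⟩
    rw [mul_smul, hga, ← hgb, inv_smul_smul]
  -- the elements of the algebra
  let u : A → MonoidAlgebra (ZMod p) A := fun a =>
    ind (ZMod p) (orb a) - ((expo p z (orb a)).card : ZMod p) • (1 : MonoidAlgebra (ZMod p) A)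
  have hu : ∀ a, Inv G (u a) := fun a => (inv_ind (hS a)).sub (Inv.one.smul _)
  have hucoeff : ∀ a x : A, (u a).coeff x =
      (if x ∈ orb a then 1 else 0) - ((expo p z (orb a)).card : ZMod p) * (if x = 1 then 1 else 0) := by
    intro a x
    change (ind (ZMod p) (orb a) - ((expo p z (orb a)).card : ZMod p) •
      (1 : MonoidAlgebra (ZMod p) A)).coeff x = _
    rw [MonoidAlgebra.coeff_sub, Finsupp.sub_apply, coeff_ind, MonoidAlgebra.coeff_smul,
      Finsupp.smul_apply, MonoidAlgebra.one_def, MonoidAlgebra.coeff_single, Finsupp.single_apply,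
      smul_eq_mul]
    simp only [eq_comm (a := (1 : A))]
  have hzi : ∀ i ∈ Finset.range p, z ^ i = 1 ↔ i = 0 := by
    intro i hi
    rw [← orderOf_dvd_iff_pow_eq_one, hz]
    constructor
    · intro h
      exact Nat.eq_zero_of_dvd_of_lt h (Finset.mem_range.mp hi)
    · rintro rfl
      exact dvd_zero p
  have hmoment : ∀ a k, 1 ≤ k → ∑ i ∈ Finset.range p, (u a).coeff (z ^ i) * (i : ZMod p) ^ k =
      ∑ i ∈ expo p z (orb a), (i : ZMod p) ^ k := by
    intro a k hk
    rw [expo, Finset.sum_filter]
    refine Finset.sum_congr rfl fun i hi => ?_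
    rw [hucoeff, hzi i hi]
    by_cases h0 : i = 0
    · subst h0
      simp [Nat.one_le_iff_ne_zero.mp hk]
    · rw [if_neg h0, mul_zero, sub_zero, ite_mul, one_mul, zero_mul]
  have hmoment0 : ∀ a, ∑ i ∈ Finset.range p, (u a).coeff (z ^ i) = 0 := by
    intro a
    have h1 : ∑ i ∈ Finset.range p, (u a).coeff (z ^ i) = ∑ i ∈ Finset.range p,
        ((if z ^ i ∈ orb a then 1 else 0) -
          ((expo p z (orb a)).card : ZMod p) * (if i = 0 then 1 else 0)) := by
      refine Finset.sum_congr rfl fun i hi => ?_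
      rw [hucoeff]
      simp only [hzi i hi]
    rw [h1, Finset.sum_sub_distrib, Finset.sum_boole, ← Finset.mul_sum, Finset.sum_ite_eq']
    rw [if_pos (Finset.mem_range.mpr hp.out.pos), mul_one]
    exact sub_self _
  -- decomposition
  let u1 : A → MonoidAlgebra (ZMod p) A := fun a => u a - part p z (u a)
  have hu1 : ∀ a, a ≠ 1 → ∀ x, (u1 a).coeff (z * x) = (u1 a).coeff x := by
    intro a ha x
    change (u a - part p z (u a)).coeff (z * x) = (u a - part p z (u a)).coeff x
    rw [MonoidAlgebra.coeff_sub, Finsupp.sub_apply, Finsupp.sub_apply]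
    by_cases hx : x ∈ Subgroup.zpowers z
    · rw [coeff_part_of_mem hz _ hx, coeff_part_of_mem hz _ (mul_mem (Subgroup.mem_zpowers z) hx),
        sub_self, sub_self]
    · have hzx : z * x ∉ Subgroup.zpowers z := by
        intro h
        exact hx ((Subgroup.mul_mem_cancel_left _ (Subgroup.mem_zpowers z)).mp h)
      rw [coeff_part_of_notMem _ hx, coeff_part_of_notMem _ hzx, sub_zero, sub_zero, hucoeff, hucoeff]
      have hx1 : x ≠ 1 := by rintro rfl; exact hx (one_mem _)
      have hzx1 : z * x ≠ 1 := by intro h; exact hzx (h ▸ one_mem _)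
      rw [if_neg hx1, if_neg hzx1, mul_zero, sub_zero, sub_zero]
      congr 1
      rw [eq_iff_iff]
      constructor
      · intro h
        have h2 := mul_pow_mem ι hι hprim hz huniq _ (hS a) h hzx (p - 1)
        have h3 : z * x * z ^ (p - 1) = x := by
          rw [mul_right_comm, ← pow_succ', Nat.sub_add_cancel hp.out.one_lt.le, ← hz,
            pow_orderOf_eq_one, one_mul]
        rwa [h3] at h2
      · intro h
        have h2 := mul_pow_mem ι hι hprim hz huniq _ (hS a) h hx 1
        rwa [pow_one, mul_comm] at h2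
  have hw : u a * u b = part p z (u a) * part p z (u b) := by
    have e1 : u a = part p z (u a) + u1 a := by
      change u a = part p z (u a) + (u a - part p z (u a)); abel
    have e2 : u b = part p z (u b) + u1 b := by
      change u b = part p z (u b) + (u b - part p z (u b)); abel
    have h1 : part p z (u a) * u1 b = 0 := part_mul _ _ (hmoment0 a) (hu1 b hb)
    have h2 : part p z (u b) * u1 a = 0 := part_mul _ _ (hmoment0 b) (hu1 a ha)
    have h3 : u1 a * u1 b = 0 := mul_eq_zero_of_invariant hz (hu1 a ha) (hu1 b hb)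
    calc u a * u b = (part p z (u a) + u1 a) * (part p z (u b) + u1 b) := by rw [← e1, ← e2]
      _ = part p z (u a) * part p z (u b) + part p z (u a) * u1 b + part p z (u b) * u1 a
          + u1 a * u1 b := by ring
      _ = part p z (u a) * part p z (u b) := by rw [h1, h2, h3, add_zero, add_zero, add_zero]
  have hwinv : Inv G (u a * u b) := (hu a).mul ι hι (hu b)
  have hwsupp : ∀ x, x ≠ 1 → (u a * u b).coeff x = 0 := by
    intro x hx
    by_contra hxc
    have hsub : {x : A | (u a * u b).coeff x ≠ 0} ⊆ (Subgroup.zpowers z : Set A) := by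
      intro y hy
      by_contra hyz
      apply hy
      rw [hw]
      exact coeff_part_mul_part _ _ hyz
    rcases eq_bot_or_top ι hι hprim _ (closure_isS ι hι hwinv.support) with h | h
    · have h2 : x ∈ Subgroup.closure {x : A | (u a * u b).coeff x ≠ 0} := Subgroup.subset_closure hxc
      rw [h, Subgroup.mem_bot] at h2
      exact hx h2
    · obtain ⟨y, hy⟩ := hne
      apply hy
      have h2 : y ∈ Subgroup.closure {x : A | (u a * u b).coeff x ≠ 0} := by rw [h]; trivial
      exact ((Subgroup.closure_le _).mpr hsub) h2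
  -- the exponents
  have hex : ∀ a, a ≠ 1 → ∃ k, 1 ≤ k ∧ k ≤ (expo p z (orb a)).card ∧
      ∑ i ∈ expo p z (orb a), (i : ZMod p) ^ k ≠ 0 := by
    intro a ha
    refine exists_power_sum_ne_zero _ (expo_nonempty ι hι hprim hz huniq _ (hS a) ⟨a, hself a⟩
      (hone a ha)) ?_ ?_
    · intro i hi
      exact Finset.mem_range.mp (Finset.mem_filter.mp hi).1
    · intro h
      have := (Finset.mem_filter.mp h).2
      rw [pow_zero] at this
      exact hone a ha this
  have hmin : ∀ a, a ≠ 1 → ∃ d, 1 ≤ d ∧ d ≤ (expo p z (orb a)).card ∧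
      (∑ i ∈ Finset.range p, (u a).coeff (z ^ i) * (i : ZMod p) ^ d) ≠ 0 ∧
      ∀ k < d, ∑ i ∈ Finset.range p, (u a).coeff (z ^ i) * (i : ZMod p) ^ k = 0 := by
    intro a ha
    obtain ⟨k, hk1, hk2, hk3⟩ := hex a ha
    have hP : ∃ k, 1 ≤ k ∧ ∑ i ∈ expo p z (orb a), (i : ZMod p) ^ k ≠ 0 := ⟨k, hk1, hk3⟩
    refine ⟨Nat.find hP, (Nat.find_spec hP).1, (Nat.find_min' hP ⟨hk1, hk3⟩).trans hk2, ?_, ?_⟩
    · rw [hmoment a _ (Nat.find_spec hP).1]
      exact (Nat.find_spec hP).2
    · intro l hl
      rcases Nat.eq_zero_or_pos l with h0 | h0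
      · subst h0
        simp only [pow_zero, mul_one]
        exact hmoment0 a
      · rw [hmoment a l h0]
        by_contra hc
        exact Nat.find_min hP hl ⟨h0, hc⟩
  obtain ⟨d, hd1, hd2, hd3, hd4⟩ := hmin a ha
  obtain ⟨e, he1, he2, he3, he4⟩ := hmin b hb
  -- sizes
  have hsize : d + e < p := by
    have h1 : Disjoint (expo p z (orb a)) (expo p z (orb b)) := by
      rw [Finset.disjoint_left]
      intro i hi hj
      exact hdisj _ (Finset.mem_filter.mp hi).2 (Finset.mem_filter.mp hj).2
    have h2 : expo p z (orb a) ∪ expo p z (orb b) ⊆ (Finset.range p).erase 0 := by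
      intro i hi
      rw [Finset.mem_erase]
      rcases Finset.mem_union.mp hi with h | h
      · refine ⟨?_, (Finset.mem_filter.mp h).1⟩
        rintro rfl
        have := (Finset.mem_filter.mp h).2
        rw [pow_zero] at this
        exact hone a ha this
      · refine ⟨?_, (Finset.mem_filter.mp h).1⟩
        rintro rfl
        have := (Finset.mem_filter.mp h).2
        rw [pow_zero] at this
        exact hone b hb this
    have h3 := Finset.card_le_card h2
    rw [Finset.card_union_of_disjoint h1, Finset.card_erase_of_mem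
      (Finset.mem_range.mpr hp.out.pos), Finset.card_range] at h3
    have := hp.out.pos
    omega
  -- the moment of the product
  have hL : lam p z (d + e) (u a * u b) = 0 := by
    unfold lam
    refine Finset.sum_eq_zero fun i hi => ?_
    by_cases h0 : i = 0
    · subst h0
      rw [Nat.cast_zero, zero_pow (by omega), mul_zero]
    · rw [hwsupp _ (fun h => h0 ((hzi i hi).mp h)), zero_mul]
  rw [hw] at hL
  unfold part at hL
  rw [lam_mul hz, Finset.sum_eq_single d] at hL
  · rw [Nat.add_sub_cancel_left] at hL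
    have hch : (((d + e).choose d : ℕ) : ZMod p) ≠ 0 := by
      rw [Ne, ZMod.natCast_eq_zero_iff]
      intro h
      have h1 : (d + e).choose d ∣ (d + e).factorial := by
        rw [← Nat.choose_mul_factorial_mul_factorial (Nat.le_add_right d e), mul_assoc]
        exact Dvd.intro _ rfl
      have h2 := (hp.out.dvd_factorial).mp (h.trans h1)
      omega
    exact mul_ne_zero (mul_ne_zero hd3 he3) hch hL
  · intro l hl hne'
    rcases lt_or_gt_of_ne hne' with h | h
    · rw [hd4 l h, zero_mul, zero_mul]
    · have h2 := Finset.mem_range.mp hl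
      rw [he4 (d + e - l) (by omega), mul_zero, zero_mul]
  · intro h
    exact absurd (Finset.mem_range.mpr (by omega)) h

end Main

section Perm

/-- **Schur's theorem** for a permutation group with a regular abelian group `A` of permutations,
given by a homomorphism `ι : A →* G`. -/
theorem isMultiplyPretransitive_of_hom {G Ω A : Type*} [Group G] [MulAction G Ω] [CommGroup A]
    [Finite A] {p : ℕ} [hp : Fact p.Prime] (hprim : MulAction.IsPreprimitive G Ω) (ι : A →* G)
    (ω : Ω) (hbij : Function.Bijective (fun a : A => ι a • ω)) {z : A} (hz : orderOf z = p)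
    (huniq : ∀ a : A, a ^ p = 1 → a ∈ Subgroup.zpowers z) (hne : ∃ a : A, a ∉ Subgroup.zpowers z) :
    MulAction.IsMultiplyPretransitive G Ω 2 := by
  let e : A ≃ Ω := Equiv.ofBijective _ hbij
  have he : ∀ a : A, e a = ι a • ω := fun a => rfl
  letI act : MulAction G A :=
    { smul := fun g a => e.symm (g • e a)
      one_smul := fun a => by
        change e.symm ((1 : G) • e a) = a
        rw [one_smul, e.symm_apply_apply]
      mul_smul := fun g h a => by
        change e.symm ((g * h) • e a) = e.symm (g • e (e.symm (h • e a)))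
        rw [e.apply_symm_apply, mul_smul] }
  have hact : ∀ (g : G) (a : A), e (g • a) = g • e a := by
    intro g a
    change e (e.symm (g • e a)) = _
    rw [e.apply_symm_apply]
  have hι : ∀ a b : A, ι a • b = a * b := by
    intro a b
    apply e.injective
    rw [hact, he, he, map_mul, mul_smul]
  have hprimA : MulAction.IsPreprimitive G A := by
    let f : Ω →ₑ[(id : G → G)] A :=
      { toFun := e.symm
        map_smul' := by
          intro g x
          apply e.injective
          rw [e.apply_symm_apply]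
          change _ = e (g • e.symm x)
          rw [hact, e.apply_symm_apply] }
    exact MulAction.IsPreprimitive.of_surjective (f := f) e.symm.surjective
  have htrans : ∀ x : Ω, ∃ g : G, g • x = ω := by
    intro x
    refine ⟨(ι (e.symm x))⁻¹, ?_⟩
    rw [inv_smul_eq_iff, ← he, e.apply_symm_apply]
  have hω : e 1 = ω := by rw [he, map_one, one_smul]
  have key : ∀ {x y : Ω}, x ≠ ω → y ≠ ω → ∃ g : G, g • ω = ω ∧ g • x = y := by
    intro x y hx hy
    obtain ⟨g, hg, hgx⟩ := exists_smul_eq ι hι hprimA hz huniq hne (a := e.symm x) (b := e.symm y)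
      (by intro h; apply hx; rw [← hω, ← h, e.apply_symm_apply])
      (by intro h; apply hy; rw [← hω, ← h, e.apply_symm_apply])
    refine ⟨g, ?_, ?_⟩
    · have := hact g 1
      rw [hg, hω] at this
      exact this.symm
    · have := hact g (e.symm x)
      rw [hgx, e.apply_symm_apply, e.apply_symm_apply] at this
      exact this.symm
  rw [MulAction.is_two_pretransitive_iff]
  intro a b c d hab hcd
  obtain ⟨g, hg⟩ := htrans a
  obtain ⟨h, hh⟩ := htrans c
  obtain ⟨k, hk1, hk2⟩ := key (x := g • b) (y := h • d)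
    (by rw [← hg]; intro h'; exact hab (smul_left_cancel g h').symm)
    (by rw [← hh]; intro h'; exact hcd (smul_left_cancel h h').symm)
  refine ⟨h⁻¹ * k * g, ?_, ?_⟩
  · rw [mul_smul, mul_smul, hg, hk1, ← hh, inv_smul_smul]
  · rw [mul_smul, mul_smul, hk2, inv_smul_smul]

/-- **Schur's theorem.** A primitive permutation group `G` on `Ω` with a regular abelian subgroup
`H` whose elements of order `p` form, with `1`, one proper subgroup of order `p`, is doubly
transitive. -/
theorem isMultiplyPretransitive_of_abelian {G Ω : Type*} [Group G] [MulAction G Ω]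
    [Finite Ω] {p : ℕ} [hp : Fact p.Prime] (hprim : MulAction.IsPreprimitive G Ω) (H : Subgroup G)
    (hcomm : IsMulCommutative H) (htr : MulAction.IsPretransitive H Ω)
    (hstab : ∀ a : Ω, MulAction.stabilizer H a = ⊥) [Nonempty Ω] {z : H} (hz : orderOf z = p)
    (huniq : ∀ a : H, a ^ p = 1 → a ∈ Subgroup.zpowers z) (hne : ∃ a : H, a ∉ Subgroup.zpowers z) :
    MulAction.IsMultiplyPretransitive G Ω 2 := by
  obtain ⟨ω⟩ := (inferInstance : Nonempty Ω)
  have hbij : Function.Bijective (fun a : H => (H.subtype a) • ω) := by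
    constructor
    · intro a b hab
      have h1 : b⁻¹ * a ∈ MulAction.stabilizer H ω := by
        rw [MulAction.mem_stabilizer_iff, mul_smul, inv_smul_eq_iff]
        exact hab
      rw [hstab, Subgroup.mem_bot, inv_mul_eq_one] at h1
      exact h1.symm
    · intro x
      obtain ⟨h, hh⟩ := htr.exists_smul_eq ω x
      exact ⟨h, hh⟩
  letI : CommGroup H := { (inferInstance : Group H) with mul_comm := hcomm.is_comm.comm }
  haveI : Finite H := Finite.of_injective _ hbij.1
  exact isMultiplyPretransitive_of_hom hprim H.subtype ω hbij hz huniq hne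

/-- **Burnside, Schur.** A primitive permutation group with a regular cyclic subgroup of composite
order is doubly transitive. -/
theorem isMultiplyPretransitive_of_cyclic {G Ω : Type*} [Group G] [MulAction G Ω]
    [Finite Ω] (hprim : MulAction.IsPreprimitive G Ω) (H : Subgroup G)
    (hcyc : IsCyclic H) (htr : MulAction.IsPretransitive H Ω)
    (hstab : ∀ a : Ω, MulAction.stabilizer H a = ⊥) (h1 : 1 < Nat.card Ω)
    (hcomp : ¬ (Nat.card Ω).Prime) : MulAction.IsMultiplyPretransitive G Ω 2 := by
  classical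
  haveI : Nonempty Ω := by
    rw [← Finite.card_pos_iff]; omega
  obtain ⟨ω⟩ := (inferInstance : Nonempty Ω)
  have hcard : Nat.card H = Nat.card Ω := by
    refine Nat.card_congr (Equiv.ofBijective (fun a : H => a • ω) ⟨?_, ?_⟩)
    · intro a b hab
      have h1 : b⁻¹ * a ∈ MulAction.stabilizer H ω := by
        rw [MulAction.mem_stabilizer_iff, mul_smul, inv_smul_eq_iff]
        exact hab
      rw [hstab, Subgroup.mem_bot, inv_mul_eq_one] at h1
      exact h1.symm
    · intro x
      obtain ⟨h, hh⟩ := htr.exists_smul_eq ω x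
      exact ⟨h, hh⟩
  haveI : Finite H := by
    apply Nat.finite_of_card_ne_zero
    rw [hcard]; omega
  set p := (Nat.card H).minFac with hp
  have hpp : p.Prime := Nat.minFac_prime (by omega)
  haveI : Fact p.Prime := ⟨hpp⟩
  obtain ⟨z, hz⟩ := exists_prime_orderOf_dvd_card' p (Nat.minFac_dvd (Nat.card H))
  refine isMultiplyPretransitive_of_abelian hprim H inferInstance htr hstab hz ?_ ?_
  · -- a cyclic group has one subgroup of order `p`
    intro a ha
    have h2 : (Subgroup.zpowers a) ≤ Subgroup.zpowers z := by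
      obtain ⟨g, hg⟩ := hcyc.exists_generator
      haveI := Fintype.ofFinite H
      have h3 : (Finset.univ.filter (fun x : H => x ^ p = 1)).card ≤ p := IsCyclic.card_pow_eq_one_le hpp.pos
      have h4 : (Finset.range p).image (fun i => z ^ i) ⊆ Finset.univ.filter (fun x : H => x ^ p = 1) := by
        intro x hx
        obtain ⟨i, _, rfl⟩ := Finset.mem_image.mp hx
        rw [Finset.mem_filter]
        refine ⟨Finset.mem_univ _, ?_⟩
        rw [← pow_mul, mul_comm, pow_mul, ← hz, pow_orderOf_eq_one, one_pow]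
      have h5 : ((Finset.range p).image (fun i => z ^ i)).card = p := by
        rw [Finset.card_image_of_injOn, Finset.card_range]
        intro i hi j hj hij
        have h6 := (pow_eq_pow_iff_modEq (x := z)).mp hij
        rw [hz] at h6
        exact Nat.ModEq.eq_of_lt_of_lt h6 (Finset.mem_range.mp hi) (Finset.mem_range.mp hj)
      have h7 := Finset.eq_of_subset_of_card_le h4 (by rw [h5]; exact h3)
      have h8 : a ∈ (Finset.range p).image (fun i => z ^ i) := by
        rw [h7, Finset.mem_filter]
        exact ⟨Finset.mem_univ _, ha⟩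
      obtain ⟨i, _, hi⟩ := Finset.mem_image.mp h8
      rw [Subgroup.zpowers_le, ← hi]
      exact Subgroup.pow_mem _ (Subgroup.mem_zpowers z) i
    exact h2 (Subgroup.mem_zpowers a)
  · by_contra hall
    push Not at hall
    have h2 : Subgroup.zpowers z = ⊤ := (Subgroup.eq_top_iff' _).mpr hall
    have h3 := Nat.card_zpowers z
    rw [h2, Subgroup.card_top, hz] at h3
    apply hcomp
    rw [← hcard, h3]
    exact hpp

end Perm

end Cfsg.Agent.H490.RegCyclic
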